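import Mathlib

/-!
# Permutations of odd order and gluing of involutions

Tools for finding, for two involutions `x`, `y` of equal support size, a third one `z` with `x * z` and
`y * z` of odd order: splicing two points into a cycle, peeling transpositions, gadgets on finitely many
points.
-/

set_option autoImplicit false

namespace Cfsg.Agent.OddProductGraph

open Equiv

variable {α : Type*}

/-- `g` has an odd period at every point. -/
def OddP (g : Perm α) : Prop := ∀ a, ∃ m : ℕ, Odd m ∧ (g ^ m) a = a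

theorem oddP_one : OddP (1 : Perm α) := fun _ => ⟨1, odd_one, rfl⟩

theorem OddP.exists_pow [Fintype α] {g : Perm α} (h : OddP g) : ∃ N : ℕ, Odd N ∧ g ^ N = 1 := by
  classical
  choose m hm hfix using h
  refine ⟨∏ a, m a, Finset.prod_induction m Odd (fun _ _ => Odd.mul) odd_one fun a _ => hm a,
    Equiv.ext fun a => ?_⟩
  obtain ⟨c, hc⟩ := Finset.dvd_prod_of_mem m (Finset.mem_univ a)
  rw [hc, pow_mul, Perm.one_apply]
  exact Function.IsFixedPt.perm_pow (show Function.IsFixedPt (⇑(g ^ m a)) a from hfix a) c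

theorem oddP_of_pow {g : Perm α} {N : ℕ} (hN : Odd N) (h : g ^ N = 1) : OddP g :=
  fun a => ⟨N, hN, by rw [h]; rfl⟩

theorem odd_orderOf [Fintype α] {g : Perm α} (h : OddP g) : Odd (orderOf g) := by
  obtain ⟨N, hN, hg⟩ := h.exists_pow
  exact hN.of_dvd_nat (orderOf_dvd_of_pow_eq_one hg)

theorem OddP.mul_of_commute [Fintype α] {g h : Perm α} (hc : Commute g h) (hg : OddP g)
    (hh : OddP h) : OddP (g * h) := by
  obtain ⟨N, hN, hgN⟩ := hg.exists_pow
  obtain ⟨M, hM, hhM⟩ := hh.exists_pow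
  exact oddP_of_pow (hN.mul hM) (by rw [hc.mul_pow, pow_mul, hgN, one_pow, one_mul, mul_comm, pow_mul,
    hhM, one_pow])

/-- The product with involutions in the other order is conjugate. -/
theorem OddP.conj {g c : Perm α} (h : OddP g) : OddP (c * g * c⁻¹) := by
  intro a
  obtain ⟨m, hm, hfix⟩ := h (c⁻¹ a)
  exact ⟨m, hm, by rw [conj_pow, Perm.mul_apply, Perm.mul_apply, hfix]; exact c.apply_symm_apply a⟩

variable [DecidableEq α]

/-- **Splicing** two new points into a cycle keeps all periods odd. -/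
theorem splice {g : Perm α} {a b d : α} (ha : g a = a) (hb : g b = b) (hab : a ≠ b) (had : a ≠ d)
    (hbd : b ≠ d) (hg : OddP g) : OddP (g * (swap a d * swap a b)) := by
  set h := g * (swap a d * swap a b) with hh
  have h_a : h a = b := by
    rw [hh, Perm.mul_apply, Perm.mul_apply, swap_apply_left, swap_apply_of_ne_of_ne hab.symm hbd, hb]
  have h_b : h b = g d := by
    rw [hh, Perm.mul_apply, Perm.mul_apply, swap_apply_right, swap_apply_left]
  have h_d : h d = a := by
    rw [hh, Perm.mul_apply, Perm.mul_apply, swap_apply_of_ne_of_ne had.symm hbd.symm, swap_apply_right, ha]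
  have h_o : ∀ c, c ≠ a → c ≠ b → c ≠ d → h c = g c := fun c h1 h2 h3 => by
    rw [hh, Perm.mul_apply, Perm.mul_apply, swap_apply_of_ne_of_ne h1 h2, swap_apply_of_ne_of_ne h1 h3]
  have hout : ∀ c, c ≠ a → c ≠ b → ∀ i : ℕ, (g ^ i) c ≠ a ∧ (g ^ i) c ≠ b := fun c h1 h2 i =>
    ⟨fun e => h1 ((g ^ i).injective (e.trans ((show Function.IsFixedPt (⇑g) a from ha).perm_pow i).symm)),
     fun e => h2 ((g ^ i).injective (e.trans ((show Function.IsFixedPt (⇑g) b from hb).perm_pow i).symm))⟩
  have key : ∀ c, c ≠ a → c ≠ b → ∀ i : ℕ, ∃ t : ℕ, (h ^ (i + 2 * t)) c = (g ^ i) c := by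
    intro c h1 h2 i
    induction i with
    | zero => exact ⟨0, rfl⟩
    | succ i ih =>
      obtain ⟨t, ht⟩ := ih
      obtain ⟨e1, e2⟩ := hout c h1 h2 i
      by_cases hd : (g ^ i) c = d
      · refine ⟨t + 1, ?_⟩
        rw [show i + 1 + 2 * (t + 1) = (i + 2 * t) + 1 + 1 + 1 by ring]
        simp only [pow_succ' h, Perm.mul_apply]
        rw [ht, hd, h_d, h_a, h_b, pow_succ', Perm.mul_apply, hd]
      · refine ⟨t, ?_⟩
        rw [show i + 1 + 2 * t = (i + 2 * t) + 1 by ring, pow_succ', Perm.mul_apply, ht,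
          h_o _ e1 e2 hd, pow_succ', Perm.mul_apply]
  have main : ∀ c, c ≠ a → c ≠ b → ∃ n : ℕ, Odd n ∧ (h ^ n) c = c := by
    intro c h1 h2
    obtain ⟨m, hm, hfix⟩ := hg c
    obtain ⟨t, ht⟩ := key c h1 h2 m
    exact ⟨m + 2 * t, hm.add_even (even_two_mul t), ht.trans hfix⟩
  have shift : ∀ c e, h c = e → ∀ n : ℕ, (h ^ n) c = c → (h ^ n) e = e := by
    intro c e he n hn
    rw [← he, ← Perm.mul_apply, (Commute.pow_self h n).eq, Perm.mul_apply, hn]
  intro c
  obtain ⟨n, hn, hfix⟩ := main d had.symm hbd.symm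
  by_cases hca : c = a
  · exact ⟨n, hn, hca ▸ shift d a h_d n hfix⟩
  by_cases hcb : c = b
  · exact ⟨n, hn, hcb ▸ shift a b h_a n (shift d a h_d n hfix)⟩
  exact main c hca hcb

omit [DecidableEq α] in
theorem fix_mul {g h : Perm α} {a : α} (hg : g a = a) (hh : h a = a) : (g * h) a = a := by
  rw [Perm.mul_apply, hh, hg]

theorem swap_mul_inv' {z : Perm α} (hz : z * z = 1) (i j : α) :
    swap i j * z = z * swap (z i) (z j) := by
  rw [Equiv.swap_mul_eq_mul_swap, inv_eq_of_mul_eq_one_right hz]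

theorem commute_swap {g : Perm α} {a b : α} (ha : g a = a) (hb : g b = b) : Commute g (swap a b) := by
  show g * swap a b = swap a b * g
  rw [Equiv.mul_swap_eq_swap_mul, ha, hb]

/-! ### Involutions supported in a finite set -/

/-- An involution fixing everything outside `S`. -/
def Inv (S : Finset α) (x : Perm α) : Prop := x * x = 1 ∧ ∀ a, a ∉ S → x a = a

omit [DecidableEq α] in
theorem Inv.apply_apply {S : Finset α} {x : Perm α} (h : Inv S x) (a : α) : x (x a) = a := by
  rw [← Perm.mul_apply, h.1]; rfl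

omit [DecidableEq α] in
theorem Inv.mem {S : Finset α} {x : Perm α} (h : Inv S x) {a : α} (ha : x a ≠ a) : a ∈ S := by
  by_contra hn; exact ha (h.2 a hn)

omit [DecidableEq α] in
theorem Inv.mem' {S : Finset α} {x : Perm α} (h : Inv S x) {a : α} (ha : x a ≠ a) : x a ∈ S :=
  h.mem fun e => ha (x.injective e)

omit [DecidableEq α] in
theorem Inv.mono {S T : Finset α} {x : Perm α} (h : Inv S x) (hST : S ⊆ T) : Inv T x :=
  ⟨h.1, fun a ha => h.2 a fun hm => ha (hST hm)⟩

variable [Fintype α]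

/-- Removing a transposition of an involution. -/
theorem peel {S : Finset α} {x : Perm α} (hx : Inv S x) {a b : α} (hxa : x a = b) (hne : a ≠ b) :
    ∃ x' : Perm α, x = x' * swap a b ∧ Inv ((S.erase a).erase b) x' ∧ x' a = a ∧ x' b = b ∧
      (∀ c, c ≠ a → c ≠ b → x' c = x c) ∧ x.support.card = x'.support.card + 2 := by
  have hxb : x b = a := by rw [← hxa, hx.apply_apply]
  set x' := x * swap a b with hx'
  have e : x = x' * swap a b := by rw [hx', mul_assoc, swap_mul_self, mul_one]
  have h_a : x' a = a := by rw [hx', Perm.mul_apply, swap_apply_left, hxb]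
  have h_b : x' b = b := by rw [hx', Perm.mul_apply, swap_apply_right, hxa]
  have h_o : ∀ c, c ≠ a → c ≠ b → x' c = x c := fun c h1 h2 => by
    rw [hx', Perm.mul_apply, swap_apply_of_ne_of_ne h1 h2]
  have hc : Commute x (swap a b) := by
    show x * swap a b = swap a b * x
    rw [Equiv.mul_swap_eq_swap_mul, hxa, hxb, swap_comm]
  refine ⟨x', e, ⟨?_, fun c hc' => ?_⟩, h_a, h_b, h_o, ?_⟩
  · rw [hx', ← pow_two, hc.mul_pow, pow_two, pow_two, hx.1, swap_mul_self, one_mul]
  · by_cases h1 : c = a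
    · rw [h1, h_a]
    by_cases h2 : c = b
    · rw [h2, h_b]
    rw [h_o c h1 h2, hx.2 c fun hm => hc' (Finset.mem_erase.mpr ⟨h2, Finset.mem_erase.mpr ⟨h1, hm⟩⟩)]
  · have hd : x'.Disjoint (swap a b) := fun c => by
      by_cases h1 : c = a
      · exact Or.inl (h1 ▸ h_a)
      by_cases h2 : c = b
      · exact Or.inl (h2 ▸ h_b)
      exact Or.inr (swap_apply_of_ne_of_ne h1 h2)
    conv_lhs => rw [e]
    rw [hd.card_support_mul, Perm.card_support_swap hne]

/-- Adding a transposition to an involution. -/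
theorem push {S : Finset α} {z' : Perm α} (hz : Inv S z') {a b : α} (ha : z' a = a) (hb : z' b = b)
    (hne : a ≠ b) {T : Finset α} (hT : S ⊆ T) (haT : a ∈ T) (hbT : b ∈ T) :
    Inv T (z' * swap a b) ∧ (z' * swap a b).support.card = z'.support.card + 2 ∧
      (z' * swap a b) a = b ∧ (z' * swap a b) b = a ∧
      ∀ c, c ≠ a → c ≠ b → (z' * swap a b) c = z' c := by
  have hc := commute_swap ha hb
  refine ⟨⟨?_, fun c hc' => ?_⟩, ?_, by rw [Perm.mul_apply, swap_apply_left, hb],
    by rw [Perm.mul_apply, swap_apply_right, ha],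
    fun c h1 h2 => by rw [Perm.mul_apply, swap_apply_of_ne_of_ne h1 h2]⟩
  · rw [← pow_two, hc.mul_pow, pow_two, pow_two, hz.1, swap_mul_self, one_mul]
  · rw [Perm.mul_apply, swap_apply_of_ne_of_ne (fun e : c = a => hc' (e ▸ haT))
      (fun e : c = b => hc' (e ▸ hbT)), hz.2 c fun hm => hc' (hT hm)]
  · have hd : z'.Disjoint (swap a b) := fun c => by
      by_cases h1 : c = a
      · exact Or.inl (h1 ▸ ha)
      by_cases h2 : c = b
      · exact Or.inl (h2 ▸ hb)
      exact Or.inr (swap_apply_of_ne_of_ne h1 h2)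
    rw [hd.card_support_mul, Perm.card_support_swap hne]

/-! ### Gadgets -/

/-- Transfer of a permutation along an embedding. -/
noncomputable def via {k : ℕ} (f : Fin k ↪ α) : Perm (Fin k) →* Perm α := Perm.viaEmbeddingHom f

omit [DecidableEq α] [Fintype α] in
theorem via_apply {k : ℕ} (f : Fin k ↪ α) (g : Perm (Fin k)) (i : Fin k) : via f g (f i) = f (g i) :=
  Perm.viaEmbedding_apply g f i

omit [DecidableEq α] [Fintype α] in
theorem via_apply_out {k : ℕ} (f : Fin k ↪ α) (g : Perm (Fin k)) {a : α} (h : a ∉ Set.range f) :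
    via f g a = a :=
  Perm.viaEmbedding_apply_of_notMem g f a h

omit [Fintype α] in
theorem via_swap {k : ℕ} (f : Fin k ↪ α) (i j : Fin k) : via f (swap i j) = swap (f i) (f j) := by
  ext a
  by_cases h : a ∈ Set.range f
  · obtain ⟨l, rfl⟩ := h
    rw [via_apply, f.injective.swap_apply]
  · rw [via_apply_out f _ h, swap_apply_of_ne_of_ne (fun e : a = f i => h ⟨i, e.symm⟩)
      (fun e : a = f j => h ⟨j, e.symm⟩)]

omit [DecidableEq α] [Fintype α] in
theorem oddP_via {k : ℕ} (f : Fin k ↪ α) (g : Perm (Fin k)) {N : ℕ} (hN : Odd N) (h : g ^ N = 1) :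
    OddP (via f g) := oddP_of_pow hN (by rw [← map_pow, h, map_one])

theorem card_support_via {k : ℕ} (f : Fin k ↪ α) (g : Perm (Fin k)) :
    (via f g).support.card = g.support.card := by
  rw [← Finset.card_map f]
  congr 1
  ext a
  rw [Perm.mem_support, Finset.mem_map]
  constructor
  · intro h
    by_cases ha : a ∈ Set.range f
    · obtain ⟨l, rfl⟩ := ha
      exact ⟨l, Perm.mem_support.mpr fun e => h (by rw [via_apply, e]), rfl⟩
    · exact absurd (via_apply_out f g ha) h
  · rintro ⟨l, hl, rfl⟩ e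
    rw [via_apply] at e
    exact Perm.mem_support.mp hl (f.injective e)

/-- Splitting off a gadget on which an involution restricts to `x0`. -/
theorem split {k : ℕ} {S : Finset α} {x : Perm α} (hx : Inv S x) (f : Fin k ↪ α) (x0 : Perm (Fin k))
    (h0 : x0 * x0 = 1) (hxf : ∀ i, x (f i) = f (x0 i)) :
    ∃ x' : Perm α, x = x' * via f x0 ∧ Inv (S \ Finset.univ.map f) x' ∧ (∀ i, x' (f i) = f i) ∧
      (∀ c, c ∉ Set.range f → x' c = x c) ∧ x.support.card = x'.support.card + x0.support.card := by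
  set x' := x * via f x0 with hx'
  have hvv : via f x0 * via f x0 = 1 := by rw [← map_mul, h0, map_one]
  have e : x = x' * via f x0 := by rw [hx', mul_assoc, hvv, mul_one]
  have hin : ∀ i, x' (f i) = f i := fun i => by
    rw [hx', Perm.mul_apply, via_apply, hxf, ← Perm.mul_apply, h0, Perm.one_apply]
  have hout : ∀ c, c ∉ Set.range f → x' c = x c := fun c hc => by
    rw [hx', Perm.mul_apply, via_apply_out f _ hc]
  have hc : Commute x (via f x0) := by
    refine Equiv.ext fun a => ?_
    simp only [Perm.mul_apply]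
    by_cases ha : a ∈ Set.range f
    · obtain ⟨l, rfl⟩ := ha
      rw [via_apply, hxf, hxf, via_apply]
    · rw [via_apply_out f _ ha, via_apply_out f _ fun ⟨l, hl⟩ => ha ⟨x0 l, by
        rw [← hxf, hl, hx.apply_apply]⟩]
  refine ⟨x', e, ⟨?_, fun c hc' => ?_⟩, hin, hout, ?_⟩
  · rw [hx', ← pow_two, hc.mul_pow, pow_two, pow_two, hx.1, hvv, one_mul]
  · by_cases h : c ∈ Set.range f
    · obtain ⟨l, rfl⟩ := h; exact hin l
    · rw [hout c h, hx.2 c fun hm => hc' (Finset.mem_sdiff.mpr ⟨hm, fun hm' => by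
        obtain ⟨l, -, hl⟩ := Finset.mem_map.mp hm'; exact h ⟨l, hl⟩⟩)]
  · have hd : x'.Disjoint (via f x0) := fun c => by
      by_cases h : c ∈ Set.range f
      · obtain ⟨l, rfl⟩ := h; exact Or.inl (hin l)
      · exact Or.inr (via_apply_out f _ h)
    conv_lhs => rw [e]
    rw [hd.card_support_mul, card_support_via]

omit [DecidableEq α] [Fintype α] in
theorem commute_via {k : ℕ} (f : Fin k ↪ α) (g : Perm (Fin k)) {h : Perm α}
    (hfix : ∀ i, h (f i) = f i) : Commute h (via f g) :=
  Perm.Disjoint.commute fun c => by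
    by_cases hc : c ∈ Set.range f
    · obtain ⟨l, rfl⟩ := hc; exact Or.inl (hfix l)
    · exact Or.inr (via_apply_out f _ hc)

/-- Gluing a gadget to an involution fixing its points. -/
theorem glue {k : ℕ} {S : Finset α} (f : Fin k ↪ α) (hfS : ∀ i, f i ∈ S) {z' : Perm α}
    (hz : Inv (S \ Finset.univ.map f) z') (z0 : Perm (Fin k)) (h0 : z0 * z0 = 1) :
    Inv S (z' * via f z0) ∧ (z' * via f z0).support.card = z'.support.card + z0.support.card ∧
      ∀ i, (z' * via f z0) (f i) = f (z0 i) := by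
  have hfix : ∀ i, z' (f i) = f i := fun i => hz.2 _ fun h =>
    (Finset.mem_sdiff.mp h).2 (Finset.mem_map_of_mem f (Finset.mem_univ i))
  have hd : z'.Disjoint (via f z0) := fun c => by
    by_cases h : c ∈ Set.range f
    · obtain ⟨l, rfl⟩ := h; exact Or.inl (hfix l)
    · exact Or.inr (via_apply_out f _ h)
  refine ⟨⟨?_, fun c hc => ?_⟩, by rw [hd.card_support_mul, card_support_via],
    fun i => by rw [Perm.mul_apply, via_apply, hfix]⟩
  · rw [← pow_two, hd.commute.mul_pow, pow_two, pow_two, hz.1, ← map_mul, h0, map_one, one_mul]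
  · rw [Perm.mul_apply, via_apply_out f _ fun ⟨l, hl⟩ => hc (hl ▸ hfS l),
      hz.2 c fun hm => hc (Finset.mem_sdiff.mp hm).1]

/-- `z` solves the pair `x`, `y` inside `S`. -/
def Sol (S : Finset α) (x y z : Perm α) : Prop :=
  Inv S z ∧ z.support.card = x.support.card ∧ OddP (x * z) ∧ OddP (y * z)

theorem Sol.symm {S : Finset α} {x y z : Perm α} (h : Sol S x y z)
    (hc : x.support.card = y.support.card) : Sol S y x z :=
  ⟨h.1, h.2.1.trans hc, h.2.2.2, h.2.2.1⟩

/-- Gluing a solved gadget. -/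
theorem sol_glue {k : ℕ} {S : Finset α} {x y x' y' z' : Perm α} (f : Fin k ↪ α) (hfS : ∀ i, f i ∈ S)
    (x0 y0 z0 : Perm (Fin k)) (hz0 : z0 * z0 = 1) (hcard : z0.support.card = x0.support.card)
    (hx : x = x' * via f x0) (hxc : x.support.card = x'.support.card + x0.support.card)
    (hy : y = y' * via f y0) (hx' : ∀ i, x' (f i) = f i) (hy' : ∀ i, y' (f i) = f i)
    (hz' : Sol (S \ Finset.univ.map f) x' y' z') {N : ℕ} (hN : Odd N) (hxz : (x0 * z0) ^ N = 1)
    (hyz : (y0 * z0) ^ N = 1) :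
    Sol S x y (z' * via f z0) ∧ ∀ i, (z' * via f z0) (f i) = f (z0 i) := by
  obtain ⟨hzinv, hzc, hzx, hzy⟩ := hz'
  obtain ⟨g1, g2, g3⟩ := glue f hfS hzinv z0 hz0
  have hfix : ∀ i, z' (f i) = f i := fun i => hzinv.2 _ fun h =>
    (Finset.mem_sdiff.mp h).2 (Finset.mem_map_of_mem f (Finset.mem_univ i))
  refine ⟨⟨g1, by rw [g2, hzc, hxc, hcard], ?_, ?_⟩, g3⟩
  · have e : x * (z' * via f z0) = (x' * z') * via f (x0 * z0) := by
      rw [hx, map_mul, mul_assoc, ← mul_assoc (via f x0), ← (commute_via f x0 hfix).eq]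
      simp only [mul_assoc]
    rw [e]
    exact OddP.mul_of_commute (commute_via f _ fun i => fix_mul (hx' i) (hfix i)) hzx (oddP_via f _ hN hxz)
  · have e : y * (z' * via f z0) = (y' * z') * via f (y0 * z0) := by
      rw [hy, map_mul, mul_assoc, ← mul_assoc (via f y0), ← (commute_via f y0 hfix).eq]
      simp only [mul_assoc]
    rw [e]
    exact OddP.mul_of_commute (commute_via f _ fun i => fix_mul (hy' i) (hfix i)) hzy (oddP_via f _ hN hyz)

end Cfsg.Agent.OddProductGraph
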