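import Cfsg.Agent.Lib.OddProductGraph.Basic

/-!
# A third involution with two odd products

For involutions `x`, `y` supported in a finite set `S`, with supports of equal size and not forming a
single square on `S`, there is an involution `z` of the same size with `x * z`, `y * z` of odd order.
-/

set_option autoImplicit false

namespace Cfsg.Agent.OddProductGraph

open Equiv

/-- The involution with the given table of values. -/
def tab {k : ℕ} (t : Fin k → Fin k) (h : ∀ i, t (t i) = i) : Perm (Fin k) := ⟨t, t, h, h⟩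

theorem tab_mul_self {k : ℕ} (t : Fin k → Fin k) (h : ∀ i, t (t i) = i) : tab t h * tab t h = 1 :=
  Equiv.ext h

variable {α : Type*}

/-- Two embeddings with disjoint ranges side by side. -/
def join {m k : ℕ} (f : Fin m ↪ α) (g : Fin k ↪ α) (h : ∀ i j, f i ≠ g j) : Fin (m + k) ↪ α :=
  ⟨Fin.append f g, Fin.append_injective_iff.mpr ⟨f.injective, g.injective, h⟩⟩

theorem join_left {m k : ℕ} (f : Fin m ↪ α) (g : Fin k ↪ α) (h : ∀ i j, f i ≠ g j) (i : Fin m) :
    join f g h (Fin.castAdd k i) = f i := Fin.append_left _ _ i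

theorem join_right {m k : ℕ} (f : Fin m ↪ α) (g : Fin k ↪ α) (h : ∀ i j, f i ≠ g j) (j : Fin k) :
    join f g h (Fin.natAdd m j) = g j := Fin.append_right _ _ j

theorem join_mem {m k : ℕ} (f : Fin m ↪ α) (g : Fin k ↪ α) (h : ∀ i j, f i ≠ g j) {S : Finset α}
    (hf : ∀ i, f i ∈ S) (hg : ∀ j, g j ∈ S) (l : Fin (m + k)) : join f g h l ∈ S := by
  refine Fin.addCases (fun i => ?_) (fun j => ?_) l
  · rw [join_left]; exact hf i
  · rw [join_right]; exact hg j

theorem join_apply {m k : ℕ} (f : Fin m ↪ α) (g : Fin k ↪ α) (h : ∀ i j, f i ≠ g j) {x : Perm α}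
    {p : Perm (Fin m)} {q : Perm (Fin k)} (hp : ∀ i, x (f i) = f (p i)) (hq : ∀ j, x (g j) = g (q j))
    (t : Perm (Fin (m + k))) (ht : ∀ i, t (Fin.castAdd k i) = Fin.castAdd k (p i))
    (ht' : ∀ j, t (Fin.natAdd m j) = Fin.natAdd m (q j)) (l : Fin (m + k)) :
    x (join f g h l) = join f g h (t l) := by
  refine Fin.addCases (fun i => ?_) (fun j => ?_) l
  · rw [ht, join_left, join_left, hp]
  · rw [ht', join_right, join_right, hq]

/-- Four distinct points. -/
def e4 (a b c d : α) (hab : a ≠ b) (hac : a ≠ c) (had : a ≠ d) (hbc : b ≠ c) (hbd : b ≠ d) (hcd : c ≠ d) :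
    Fin 4 ↪ α :=
  ⟨![a, b, c, d], by
    intro i j h
    fin_cases i <;> fin_cases j <;>
      first
        | rfl
        | exact absurd h hab | exact absurd h.symm hab | exact absurd h hac | exact absurd h.symm hac
        | exact absurd h had | exact absurd h.symm had | exact absurd h hbc | exact absurd h.symm hbc
        | exact absurd h hbd | exact absurd h.symm hbd | exact absurd h hcd | exact absurd h.symm hcd⟩

/-- Two distinct points. -/
def e2 (a b : α) (hab : a ≠ b) : Fin 2 ↪ α :=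
  ⟨![a, b], by
    intro i j h
    fin_cases i <;> fin_cases j <;> first | rfl | exact absurd h hab | exact absurd h.symm hab⟩

/-- One point. -/
def e1 (a : α) : Fin 1 ↪ α := ⟨fun _ => a, fun i j _ => Subsingleton.elim i j⟩

/-- The two pairings of a square. -/
def qx : Perm (Fin 4) := tab ![1, 0, 3, 2] (by decide)

/-- The second pairing of a square. -/
def qy : Perm (Fin 4) := tab ![3, 2, 1, 0] (by decide)

/-- `a` lies on a square of the two involutions. -/
def Sq (x y : Perm α) (a : α) : Prop := x a ≠ a ∧ y a ≠ a ∧ x a ≠ y a ∧ x (y a) = y (x a)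

/-- `T` is a single square. -/
def Lone (T : Finset α) (x y : Perm α) : Prop :=
  T.card = 4 ∧ ∀ a ∈ T, x a ≠ a ∧ y a ≠ a ∧ x a ≠ y a

theorem Lone.congr {T : Finset α} {x y x' y' : Perm α} (h : Lone T x y)
    (hx : ∀ a ∈ T, x' a = x a) (hy : ∀ a ∈ T, y' a = y a) : Lone T x' y' :=
  ⟨h.1, fun a ha => by rw [hx a ha, hy a ha]; exact h.2 a ha⟩

theorem Lone.sq [DecidableEq α] {T : Finset α} {x y : Perm α} (hxx : ∀ a, x (x a) = a)
    (hyy : ∀ a, y (y a) = a) (h : Lone T x y) (hxT : ∀ a ∈ T, x a ∈ T) (hyT : ∀ a ∈ T, y a ∈ T)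
    {a : α} (ha : a ∈ T) : Sq x y a := by
  obtain ⟨h1, h2, h3⟩ := h.2 a ha
  refine ⟨h1, h2, h3, ?_⟩
  obtain ⟨hX1, hX2, hX3⟩ := h.2 _ (hxT a ha)
  obtain ⟨hY1, hY2, hY3⟩ := h.2 _ (hyT a ha)
  have hc : ((({a, x a, y a} : Finset α))).card = 3 := by
    rw [Finset.card_insert_of_notMem (by simp [h1.symm, h2.symm]),
      Finset.card_insert_of_notMem (by simp [h3]), Finset.card_singleton]
  have hsub : ({a, x a, y a} : Finset α) ⊆ T := by
    intro b hb
    simp only [Finset.mem_insert, Finset.mem_singleton] at hb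
    rcases hb with rfl | rfl | rfl
    exacts [ha, hxT a ha, hyT a ha]
  have h1' : (T \ {a, x a, y a}).card ≤ 1 := by rw [Finset.card_sdiff_of_subset hsub, hc, h.1]
  rw [Finset.card_le_one] at h1'
  refine h1' _ ?_ _ ?_
  · simp only [Finset.mem_sdiff, Finset.mem_insert, Finset.mem_singleton, not_or]
    exact ⟨hxT _ (hyT a ha), fun e => hY3 (e.trans (hyy a).symm),
      fun e => h2 (x.injective e), hY1⟩
  · simp only [Finset.mem_sdiff, Finset.mem_insert, Finset.mem_singleton, not_or]
    exact ⟨hyT _ (hxT a ha), fun e => hX3 ((hxx a).trans e.symm), hX2,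
      fun e => h1 (y.injective e)⟩

variable [Fintype α] [DecidableEq α]

omit [Fintype α] [DecidableEq α] in
/-- The points of a square. -/
theorem frame {S : Finset α} {x y : Perm α} (hx : Inv S x) (hy : Inv S y) {a : α} (h : Sq x y a) :
    ∃ q : Fin 4 ↪ α, (∀ i, q i ∈ S) ∧ (∀ i, x (q i) = q (qx i)) ∧ (∀ i, y (q i) = q (qy i)) ∧
      ∀ {m : ℕ} (f : Fin m ↪ α) (p r : Perm (Fin m)), (∀ i, x (f i) = f (p i)) →
        (∀ i, y (f i) = f (r i)) → a ∉ Set.range f → ∀ i j, f i ≠ q j := by
  obtain ⟨h1, h2, h3, h4⟩ := h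
  have eXd : x (y a) = y (x a) := h4
  have eXc : x (y (x a)) = y a := by rw [← h4, hx.apply_apply]
  have eYc : y (y (x a)) = x a := hy.apply_apply _
  have hac : a ≠ y (x a) := fun e => h3 (by
    have := congrArg y e
    rw [eYc] at this
    exact this.symm)
  have hbc : x a ≠ y (x a) := fun e => h2 (by
    have := congrArg x e
    rw [hx.apply_apply, eXc] at this
    exact this.symm)
  have hcd : y (x a) ≠ y a := fun e => h1 (y.injective e)
  refine ⟨e4 a (x a) (y (x a)) (y a) h1.symm hac h2.symm hbc h3 hcd, ?_, ?_, ?_, ?_⟩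
  · intro i
    fin_cases i
    exacts [hx.mem h1, hx.mem' h1, hy.mem' (hbc.symm), hy.mem' h2]
  · intro i
    fin_cases i
    exacts [rfl, hx.apply_apply a, eXc, eXd]
  · intro i
    fin_cases i
    exacts [rfl, rfl, eYc, hy.apply_apply a]
  · intro m f p r hp hr ha i j e
    have back : ∀ b, b ∈ Set.range f → x b ∈ Set.range f ∧ y b ∈ Set.range f := by
      rintro b ⟨l, rfl⟩
      exact ⟨⟨p l, (hp l).symm⟩, ⟨r l, (hr l).symm⟩⟩
    fin_cases j
    · exact ha ⟨i, e⟩
    · exact ha (hx.apply_apply a ▸ (back _ ⟨i, e⟩).1)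
    · have hb : x a ∈ Set.range f := hy.apply_apply (x a) ▸ (back _ ⟨i, e⟩).2
      exact ha (hx.apply_apply a ▸ (back _ hb).1)
    · exact ha (hy.apply_apply a ▸ (back _ ⟨i, e⟩).2)

omit [Fintype α] in
/-- A lone square outside an invariant gadget. -/
theorem lone_frame {m : ℕ} {S : Finset α} {x y : Perm α} (hx : Inv S x) (hy : Inv S y) (f : Fin m ↪ α)
    {p r : Perm (Fin m)} (hp : ∀ i, x (f i) = f (p i)) (hr : ∀ i, y (f i) = f (r i))
    (h : Lone (S \ Finset.univ.map f) x y) :
    ∃ q : Fin 4 ↪ α, (∀ i, q i ∈ S) ∧ (∀ i, x (q i) = q (qx i)) ∧ (∀ i, y (q i) = q (qy i)) ∧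
      ∀ i j, f i ≠ q j := by
  have cl : ∀ {w : Perm α} {t : Perm (Fin m)}, Inv S w → (∀ i, w (f i) = f (t i)) →
      ∀ a ∈ S \ Finset.univ.map f, w a ≠ a → w a ∈ S \ Finset.univ.map f := by
    intro w t hw ht a ha hne
    refine Finset.mem_sdiff.mpr ⟨hw.mem' hne, fun hm => (Finset.mem_sdiff.mp ha).2 ?_⟩
    obtain ⟨l, -, hl⟩ := Finset.mem_map.mp hm
    exact Finset.mem_map.mpr ⟨t l, Finset.mem_univ _, by rw [← ht, hl, hw.apply_apply]⟩
  obtain ⟨a, ha⟩ := Finset.card_pos.mp (by rw [h.1]; omega : 0 < (S \ Finset.univ.map f).card)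
  have hs := h.sq hx.apply_apply hy.apply_apply (fun b hb => cl hx hp b hb (h.2 b hb).1)
    (fun b hb => cl hy hr b hb (h.2 b hb).2.1) ha
  obtain ⟨q, q1, q2, q3, q4⟩ := frame hx hy hs
  exact ⟨q, q1, q2, q3, q4 f p r hp hr fun ⟨l, hl⟩ =>
    (Finset.mem_sdiff.mp ha).2 (hl ▸ Finset.mem_map_of_mem f (Finset.mem_univ l))⟩

/-- Solving by a gadget and a solution of the rest. -/
theorem gadget_step {k : ℕ} {S : Finset α} {x y : Perm α} (hx : Inv S x) (hy : Inv S y)
    (hc : x.support.card = y.support.card) (f : Fin k ↪ α) (hfS : ∀ i, f i ∈ S)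
    (x0 y0 z0 : Perm (Fin k)) (hx0 : x0 * x0 = 1) (hy0 : y0 * y0 = 1) (hz0 : z0 * z0 = 1)
    (hxy0 : x0.support.card = y0.support.card) (hz0c : z0.support.card = x0.support.card)
    (hxf : ∀ i, x (f i) = f (x0 i)) (hyf : ∀ i, y (f i) = f (y0 i)) {N : ℕ} (hN : Odd N)
    (hxz : (x0 * z0) ^ N = 1) (hyz : (y0 * z0) ^ N = 1)
    (hrec : ∀ x' y', Inv (S \ Finset.univ.map f) x' → Inv (S \ Finset.univ.map f) y' →
      x'.support.card = y'.support.card →
      (∀ a ∈ S \ Finset.univ.map f, x' a = x a) → (∀ a ∈ S \ Finset.univ.map f, y' a = y a) →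
      ∃ z', Sol (S \ Finset.univ.map f) x' y' z') :
    ∃ z, Sol S x y z := by
  obtain ⟨x', ex, ix, fx, ox, cx⟩ := split hx f x0 hx0 hxf
  obtain ⟨y', ey, iy, fy, oy, cy⟩ := split hy f y0 hy0 hyf
  have out : ∀ a ∈ S \ Finset.univ.map f, a ∉ Set.range f := fun a ha ⟨l, hl⟩ =>
    (Finset.mem_sdiff.mp ha).2 (hl ▸ Finset.mem_map_of_mem f (Finset.mem_univ l))
  obtain ⟨z', hz'⟩ := hrec x' y' ix iy (by omega) (fun a ha => ox a (out a ha))
    (fun a ha => oy a (out a ha))
  exact ⟨_, (sol_glue f hfS x0 y0 z0 hz0 hz0c ex cx ey fx fy hz' hN hxz hyz).1⟩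

/-- Solving by a gadget covering everything. -/
theorem gadget_full {k : ℕ} {S : Finset α} {x y : Perm α} (hx : Inv S x) (hy : Inv S y)
    (hc : x.support.card = y.support.card) (f : Fin k ↪ α) (hfS : ∀ i, f i ∈ S) (hk : S.card = k)
    (x0 y0 z0 : Perm (Fin k)) (hx0 : x0 * x0 = 1) (hy0 : y0 * y0 = 1) (hz0 : z0 * z0 = 1)
    (hxy0 : x0.support.card = y0.support.card) (hz0c : z0.support.card = x0.support.card)
    (hxf : ∀ i, x (f i) = f (x0 i)) (hyf : ∀ i, y (f i) = f (y0 i)) {N : ℕ} (hN : Odd N)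
    (hxz : (x0 * z0) ^ N = 1) (hyz : (y0 * z0) ^ N = 1) : ∃ z, Sol S x y z := by
  refine gadget_step hx hy hc f hfS x0 y0 z0 hx0 hy0 hz0 hxy0 hz0c hxf hyf hN hxz hyz ?_
  intro x' y' ix iy hcard _ _
  have hempty : S \ Finset.univ.map f = ∅ := by
    rw [Finset.eq_of_subset_of_card_le (s := Finset.univ.map f) (t := S)
      (fun a ha => by obtain ⟨l, -, rfl⟩ := Finset.mem_map.mp ha; exact hfS l) (by simp [hk]),
      Finset.sdiff_self]
  rw [hempty] at ix iy ⊢
  have h1 : x' = 1 := Equiv.ext fun a => ix.2 a (Finset.notMem_empty a)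
  have h2 : y' = 1 := Equiv.ext fun a => iy.2 a (Finset.notMem_empty a)
  subst h1 h2
  exact ⟨1, ⟨one_mul 1, fun _ _ => rfl⟩, rfl, by rw [one_mul]; exact oddP_one,
    by rw [one_mul]; exact oddP_one⟩

/-- An `x`-edge `{a, b}` whose end `b` is fixed by `y` while `y a = c ≠ b`. -/
theorem path_step {S : Finset α} {x y : Perm α} (hx : Inv S x) (hy : Inv S y)
    (hc : x.support.card = y.support.card) {a : α} (h1 : x a ≠ a) (h2 : y a ≠ a)
    (h3 : y (x a) = x a)
    (hrec : ∀ (T : Finset α) x' y', T.card < S.card → Inv T x' → Inv T y' →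
      x'.support.card = y'.support.card → ¬ Lone T x' y' → ∃ z', Sol T x' y' z') :
    ∃ z, Sol S x y z := by
  set b := x a with hbdef
  set c := y a with hcdef
  have hab : a ≠ b := h1.symm
  have hcb : c ≠ b := fun e => h1 (by rw [← h3, ← e, hcdef, hy.apply_apply])
  have hac : a ≠ c := h2.symm
  obtain ⟨x', ex, ix, xa, xb, -, cx⟩ := peel hx (a := a) (b := b) rfl hab
  obtain ⟨y', ey, iy, ya, yc, oy, cy⟩ := peel hy (a := a) (b := c) rfl hac
  have yb : y' b = b := by rw [oy b hab.symm hcb.symm, h3]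
  have iy' : Inv ((S.erase a).erase b) y' := ⟨iy.1, fun d hd => by
    by_cases hda : d = a
    · rw [hda, ya]
    by_cases hdb : d = b
    · rw [hdb, yb]
    exact iy.2 d fun hm => hd (Finset.mem_erase.mpr ⟨hdb, Finset.mem_erase.mpr
      ⟨hda, (Finset.mem_erase.mp (Finset.mem_erase.mp hm).2).2⟩⟩)⟩
  have haS : a ∈ S := hx.mem h1
  have hcT : c ∈ (S.erase a).erase b :=
    Finset.mem_erase.mpr ⟨hcb, Finset.mem_erase.mpr ⟨hac.symm, hy.mem' h2⟩⟩
  have hlt : ((S.erase a).erase b).card < S.card :=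
    lt_of_le_of_lt Finset.card_erase_le (Finset.card_erase_lt_of_mem haS)
  obtain ⟨z', hz', hzc, hzx, hzy⟩ := hrec _ x' y' hlt ix iy' (by omega)
    fun h => (h.2 c hcT).2.1 yc
  have za : z' a = a := hz'.2 a (by simp)
  have zb : z' b = b := hz'.2 b (by simp)
  obtain ⟨g1, g2, -, -, -⟩ := push hz' za zb hab (T := S)
    ((Finset.erase_subset _ _).trans (Finset.erase_subset _ _)) haS (hx.mem' h1)
  refine ⟨z' * swap a b, g1, by omega, ?_, ?_⟩
  · rw [ex, mul_assoc, ← mul_assoc (swap a b), ← (commute_swap za zb).eq, mul_assoc, swap_mul_self,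
      mul_one]
    exact hzx
  · have hda : a ≠ z' c := fun e => hac (z'.injective (za.trans e))
    have hdb : b ≠ z' c := fun e => hcb (z'.injective (zb.trans e)).symm
    rw [ey, mul_assoc, ← mul_assoc (swap a c), swap_mul_inv' hz'.1, za, mul_assoc, ← mul_assoc y']
    exact splice (fix_mul ya za) (fix_mul yb zb) hab hda hdb hzy

/-- An isolated `x`-edge and an isolated `y`-edge. -/
theorem edges_step {S : Finset α} {x y : Perm α} (hx : Inv S x) (hy : Inv S y)
    (hc : x.support.card = y.support.card) {p q : α} (hp : x p ≠ p) (hp1 : y p = p)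
    (hq : y q ≠ q) (hq1 : x q = q)
    (hrec : ∀ (T : Finset α) x' y', T.card < S.card → Inv T x' → Inv T y' →
      x'.support.card = y'.support.card → ¬ Lone T x' y' → ∃ z', Sol T x' y' z') :
    ∃ z, Sol S x y z := by
  set p' := x p with hp'
  set q' := y q with hq'
  have hpq : p ≠ q := fun e => hp (by rw [hp', e]; exact hq1)
  have hp'q : p' ≠ q := fun e => hp (by rw [← hx.apply_apply p, ← hp', e, hq1])
  have hq'p : q' ≠ p := fun e => hq (by rw [← hy.apply_apply q, ← hq', e, hp1])
  obtain ⟨x', ex, ix, xp, xp', ox, cx⟩ := peel hx (a := p) (b := p') rfl hp.symm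
  obtain ⟨y', ey, iy, yq, yq', oy, cy⟩ := peel hy (a := q) (b := q') rfl hq.symm
  have xq : x' q = q := by rw [ox q hpq.symm hp'q.symm, hq1]
  have yp : y' p = p := by rw [oy p hpq hq'p.symm, hp1]
  have ix' : Inv ((S.erase p).erase q) x' := ⟨ix.1, fun d hd => by
    by_cases hdp : d = p
    · rw [hdp, xp]
    by_cases hdq : d = q
    · rw [hdq, xq]
    exact ix.2 d fun hm => hd (Finset.mem_erase.mpr ⟨hdq, Finset.mem_erase.mpr
      ⟨hdp, (Finset.mem_erase.mp (Finset.mem_erase.mp hm).2).2⟩⟩)⟩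
  have iy' : Inv ((S.erase p).erase q) y' := ⟨iy.1, fun d hd => by
    by_cases hdp : d = p
    · rw [hdp, yp]
    by_cases hdq : d = q
    · rw [hdq, yq]
    exact iy.2 d fun hm => hd (Finset.mem_erase.mpr ⟨hdq, Finset.mem_erase.mpr
      ⟨hdp, (Finset.mem_erase.mp (Finset.mem_erase.mp hm).2).2⟩⟩)⟩
  have hpS : p ∈ S := hx.mem hp
  have hp'T : p' ∈ (S.erase p).erase q :=
    Finset.mem_erase.mpr ⟨hp'q, Finset.mem_erase.mpr ⟨hp, hx.mem' hp⟩⟩
  have hlt : ((S.erase p).erase q).card < S.card :=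
    lt_of_le_of_lt Finset.card_erase_le (Finset.card_erase_lt_of_mem hpS)
  obtain ⟨z', hz', hzc, hzx, hzy⟩ := hrec _ x' y' hlt ix' iy' (by omega)
    fun h => (h.2 p' hp'T).1 xp'
  have zp : z' p = p := hz'.2 p (by simp)
  have zq : z' q = q := hz'.2 q (by simp)
  obtain ⟨g1, g2, -, -, -⟩ := push hz' zp zq hpq (T := S)
    ((Finset.erase_subset _ _).trans (Finset.erase_subset _ _)) hpS (hy.mem hq)
  refine ⟨z' * swap p q, g1, by omega, ?_, ?_⟩
  · have h1 : p ≠ z' p' := fun e => hp (z'.injective (zp.trans e)).symm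
    have h2 : q ≠ z' p' := fun e => hp'q (z'.injective (zq.trans e)).symm
    rw [ex, mul_assoc, ← mul_assoc (swap p p'), swap_mul_inv' hz'.1, zp, mul_assoc, ← mul_assoc x']
    exact splice (fix_mul xp zp) (fix_mul xq zq) hpq h1 h2 hzx
  · have h1 : q ≠ z' q' := fun e => hq (z'.injective (zq.trans e)).symm
    have h2 : p ≠ z' q' := fun e => hq'p (z'.injective (zp.trans e)).symm
    rw [ey, mul_assoc, ← mul_assoc (swap q q'), swap_mul_inv' hz'.1, zq, mul_assoc, ← mul_assoc y',
      swap_comm p q]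
    exact splice (fix_mul yq zq) (fix_mul yp zp) hpq.symm h1 h2 hzy

/-- Shortening a cycle through a point on no square. -/
theorem cycle_step {S : Finset α} {x y : Perm α} (hx : Inv S x) (hy : Inv S y)
    (hc : x.support.card = y.support.card) (hmov : ∀ a ∈ S, x a ≠ a ∧ y a ≠ a ∧ x a ≠ y a)
    {a : α} (haS : a ∈ S) (hns : x (y a) ≠ y (x a))
    (hrec : ∀ (T : Finset α) x' y', T.card < S.card → Inv T x' → Inv T y' →
      x'.support.card = y'.support.card → ¬ Lone T x' y' → ∃ z', Sol T x' y' z') :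
    ∃ z, Sol S x y z := by
  set b := x a with hb
  set c := y b with hc'
  set d := x c with hd
  set e := y d with he
  set p := y a with hp
  obtain ⟨a1, a2, a3⟩ := hmov a haS
  have hbS : b ∈ S := hx.mem' a1
  obtain ⟨b1, b2, b3⟩ := hmov b hbS
  have hcS : c ∈ S := hy.mem' b2
  obtain ⟨c1, c2, c3⟩ := hmov c hcS
  have hdS : d ∈ S := hx.mem' c1
  obtain ⟨d1, d2, d3⟩ := hmov d hdS
  have heS : e ∈ S := hy.mem' d2
  have hpS : p ∈ S := hy.mem' a2
  have xb : x b = a := hx.apply_apply a
  have yc : y c = b := hy.apply_apply b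
  have xd : x d = c := hx.apply_apply c
  have ye : y e = d := hy.apply_apply d
  have yp : y p = a := hy.apply_apply a
  have hab : a ≠ b := a1.symm
  have hbc : b ≠ c := b2.symm
  have hcd : c ≠ d := c1.symm
  have hde : d ≠ e := d2.symm
  have hpa : p ≠ a := a2
  have hbp : b ≠ p := a3
  have hca : c ≠ a := fun h => b3 (xb.trans h.symm)
  have hda : d ≠ a := fun h => hbc (show b = c by rw [hb, ← h, xd])
  have hdb : d ≠ b := fun h => hca (x.injective (show x c = x a from h))
  have heb : e ≠ b := fun h => hcd (show c = d by rw [hc', ← h, ye])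
  have hec : e ≠ c := fun h => hdb (y.injective (show y d = y b from h))
  have hpc : p ≠ c := fun h => hab (y.injective (show y a = y b from h))
  have hpd : p ≠ d := fun h => hns (show x p = c by rw [h, xd])
  have hea : e ≠ a := fun h => hpd (show p = d by rw [hp, ← h, ye])
  have hep : e ≠ p := fun h => hda (y.injective (show y d = y a from h))
  set S' := (((S.erase a).erase b).erase c).erase d with hS'
  have memS' : ∀ w, w ∈ S' ↔ w ∈ S ∧ w ≠ a ∧ w ≠ b ∧ w ≠ c ∧ w ≠ d := fun w => by
    simp only [hS', Finset.mem_erase]; tauto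
  have hlt : S'.card < S.card :=
    lt_of_le_of_lt (Finset.card_erase_le.trans (Finset.card_erase_le.trans Finset.card_erase_le))
      (Finset.card_erase_lt_of_mem haS)
  obtain ⟨x1, ex1, ix1, x1a, x1b, ox1, cx1⟩ := peel hx (a := a) (b := b) rfl hab
  obtain ⟨x', ex, ix, x'c, x'd, ox2, cx⟩ :=
    peel ix1 (a := c) (b := d) (ox1 c hca hbc.symm) hcd
  have ox : ∀ w, w ≠ a → w ≠ b → w ≠ c → w ≠ d → x' w = x w := fun w u1 u2 u3 u4 => by
    rw [ox2 w u3 u4, ox1 w u1 u2]
  obtain ⟨y1, ey1, iy1, y1a, y1p, oy1, cy1⟩ := peel hy (a := a) (b := p) rfl hpa.symm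
  obtain ⟨y2, ey2, iy2, y2b, y2c, oy2, cy2⟩ := peel iy1 (a := b) (b := c) (oy1 b hab.symm hbp) hbc
  obtain ⟨y3, ey3, iy3, y3d, y3e, oy3, cy3⟩ := peel iy2 (a := d) (b := e)
    (by rw [oy2 d hdb hcd.symm, oy1 d hda hpd.symm]) hde
  have y3p : y3 p = p := by rw [oy3 p hpd hep.symm, oy2 p hbp.symm hpc, y1p]
  have y3a : y3 a = a := by rw [oy3 a hda.symm hea.symm, oy2 a hab hca.symm, y1a]
  have y3b : y3 b = b := by rw [oy3 b hdb.symm heb.symm, y2b]
  have y3c : y3 c = c := by rw [oy3 c hcd hec.symm, y2c]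
  have iy3S : Inv S' y3 := ⟨iy3.1, fun w hw => by
    by_cases u1 : w = a
    · rw [u1, y3a]
    by_cases u2 : w = b
    · rw [u2, y3b]
    by_cases u3 : w = c
    · rw [u3, y3c]
    by_cases u4 : w = d
    · rw [u4, y3d]
    refine iy3.2 w fun hm => hw ((memS' w).mpr ⟨?_, u1, u2, u3, u4⟩)
    simp only [Finset.mem_erase] at hm
    exact hm.2.2.2.2.2.2⟩
  have hpS' : p ∈ S' := (memS' p).mpr ⟨hpS, hpa, hbp.symm, hpc, hpd⟩
  have heS' : e ∈ S' := (memS' e).mpr ⟨heS, hea, heb, hec, hde.symm⟩
  obtain ⟨iy', cy', y'p, y'e, oy'⟩ := push iy3S y3p y3e hep.symm (T := S') subset_rfl hpS' heS'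
  set y' := y3 * swap p e with hy'
  have oy : ∀ w, w ≠ a → w ≠ b → w ≠ c → w ≠ d → w ≠ p → w ≠ e → y' w = y w :=
    fun w u1 u2 u3 u4 u5 u6 => by rw [oy' w u5 u6, oy3 w u4 u6, oy2 w u2 u3, oy1 w u1 u5]
  have ix' : Inv S' x' := ⟨ix.1, fun w hw => ix.2 w fun hm => hw (by
    rw [hS']; exact hm)⟩
  have hcc : x'.support.card = y'.support.card := by omega
  by_cases hL : Lone S' x' y'
  · -- an octagon
    have hsub : ∀ {w : Perm α}, Inv S' w → ∀ q ∈ S', w q ≠ q → w q ∈ S' := fun hw q _ h => hw.mem' h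
    obtain ⟨-, -, e3, e4'⟩ := hL.sq ix'.apply_apply iy'.apply_apply
      (fun q hq => hsub ix' q hq (hL.2 q hq).1) (fun q hq => hsub iy' q hq (hL.2 q hq).2.1) heS'
    have xe : x' e = x e := ox e hea heb hec hde.symm
    have xp : x' p = x p := ox p hpa hbp.symm hpc hpd
    have hxe : x e ∈ S' := xe ▸ ix'.mem' (hL.2 e heS').1
    have hxep : x e ≠ p := by rw [← xe, ← y'e]; exact e3
    have hxee : x e ≠ e := (hmov e heS).1
    obtain ⟨-, u1, u2, u3, u4⟩ := (memS' _).mp hxe
    rw [y'e, xp, xe, oy (x e) u1 u2 u3 u4 hxep hxee] at e4'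
    set r := y (x e) with hr
    have hrS : r ∈ S' := e4' ▸ (xp ▸ ix'.mem' (hL.2 p hpS').1)
    have hre : r ≠ e := fun h => hxep (by
      have := congrArg x (e4'.trans h)
      rw [hx.apply_apply] at this
      exact this.symm)
    have hrxe : r ≠ x e := fun h => hep (x.injective (e4'.trans h)).symm
    have hrp : r ≠ p := fun h => (hmov p hpS).1 (e4'.trans h)
    have hcard : S.card = 8 := by
      have h := hL.1
      rw [hS', Finset.card_erase_of_mem, Finset.card_erase_of_mem, Finset.card_erase_of_mem,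
        Finset.card_erase_of_mem haS] at h
      · omega
      all_goals simp [hcd.symm, hdb, hda, hbc.symm, hca, hab.symm, hbS, hcS, hdS]
    refine gadget_full hx hy hc
      (join (e4 a b c d hab hca.symm hda.symm hbc hdb.symm hcd)
        (e4 e (x e) r p hxee.symm hre.symm hep hrxe.symm hxep hrp) ?_) ?_ hcard
      (tab ![1, 0, 3, 2, 5, 4, 7, 6] (by decide)) (tab ![7, 2, 1, 4, 3, 6, 5, 0] (by decide))
      (tab ![1, 0, 4, 7, 2, 6, 5, 3] (by decide)) (tab_mul_self _ _) (tab_mul_self _ _)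
      (tab_mul_self _ _) (by decide) (by decide) ?_ ?_ (N := 3) (by decide) (by decide) (by decide)
    · intro i j h
      have hj : (![e, x e, r, p] : Fin 4 → α) j ∈ S' := by
        fin_cases j
        exacts [heS', hxe, hrS, hpS']
      obtain ⟨-, v1, v2, v3, v4⟩ := (memS' _).mp hj
      fin_cases i
      exacts [v1 h.symm, v2 h.symm, v3 h.symm, v4 h.symm]
    · refine join_mem _ _ _ (fun i => ?_) (fun j => ?_)
      · fin_cases i
        exacts [haS, hbS, hcS, hdS]
      · fin_cases j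
        exacts [heS, ((memS' _).mp hxe).1, ((memS' _).mp hrS).1, hpS]
    · intro i
      fin_cases i
      exacts [rfl, xb, rfl, xd, rfl, hx.apply_apply e,
        (show x r = p by rw [← e4', hx.apply_apply]), e4']
    · intro i
      fin_cases i
      exacts [rfl, rfl, yc, rfl, ye, rfl, hy.apply_apply _, yp]
  · obtain ⟨z', hz', hzc, hzx, hzy⟩ := hrec S' x' y' hlt ix' iy' hcc hL
    have fix : ∀ w, w = a ∨ w = b ∨ w = c ∨ w = d → z' w = w := fun w hw =>
      hz'.2 w fun hm => by
        obtain ⟨-, u1, u2, u3, u4⟩ := (memS' w).mp hm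
        rcases hw with h | h | h | h
        exacts [u1 h, u2 h, u3 h, u4 h]
    have za := fix a (by simp); have zb := fix b (by simp)
    have zc := fix c (by simp); have zd := fix d (by simp)
    obtain ⟨g1, g2, -, -, g5⟩ := push hz' za zb hab (T := S)
      (fun w hw => ((memS' w).mp hw).1) haS hbS
    obtain ⟨g1', g2', -, -, -⟩ := push g1 ((g5 c hca hbc.symm).trans zc) ((g5 d hda hdb).trans zd)
      hcd (T := S) subset_rfl hcS hdS
    refine ⟨z' * swap a b * swap c d, g1', by omega, ?_, ?_⟩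
    · have : x * (z' * swap a b * swap c d) = x' * z' := by
        rw [ex1, ex, mul_assoc (x' * swap c d), ← mul_assoc (swap a b), ← mul_assoc (swap a b),
          ← (commute_swap za zb).eq, mul_assoc z' (swap a b), swap_mul_self, mul_one, mul_assoc x',
          ← mul_assoc (swap c d), ← (commute_swap zc zd).eq, mul_assoc z' (swap c d), swap_mul_self,
          mul_one]
      rw [this]; exact hzx
    · set u := z' p with hu
      set v := z' e with hv
      have hua : a ≠ u := fun h => hpa (z'.injective (za.trans h)).symm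
      have hub : b ≠ u := fun h => hbp (z'.injective (zb.trans h))
      have huc : c ≠ u := fun h => hpc (z'.injective (zc.trans h)).symm
      have hud : d ≠ u := fun h => hpd (z'.injective (zd.trans h)).symm
      have hva : a ≠ v := fun h => hea (z'.injective (za.trans h)).symm
      have hvb : b ≠ v := fun h => heb (z'.injective (zb.trans h)).symm
      have hvc : c ≠ v := fun h => hec (z'.injective (zc.trans h)).symm
      have hvd : d ≠ v := fun h => hde (z'.injective (zd.trans h))
      have huv : u ≠ v := fun h => hep (z'.injective h).symm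
      have hdec : (swap 4 5 * swap 3 5 * swap 1 2 * swap 0 4 * swap 0 1 * swap 2 3 : Perm (Fin 6)) =
          swap 0 4 * swap 0 2 * (swap 3 5 * swap 3 1) := by decide
      have key := congrArg (via (join (e4 a b c d hab hca.symm hda.symm hbc hdb.symm hcd)
        (e2 u v huv) (by
          intro i j h
          fin_cases i <;> fin_cases j
          exacts [hua h, hva h, hub h, hvb h, huc h, hvc h, hud h, hvd h]))) hdec
      simp only [map_mul, via_swap] at key
      change swap u v * swap d v * swap b c * swap a u * swap a b * swap c d =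
        swap a u * swap a c * (swap d v * swap d b) at key
      have e1 : swap a p * z' = z' * swap a u := by rw [swap_mul_inv' hz'.1, za]
      have e2 : swap b c * z' = z' * swap b c := (commute_swap zb zc).eq.symm
      have e3 : swap d e * z' = z' * swap d v := by rw [swap_mul_inv' hz'.1, zd]
      have e4'' : swap p e * z' = z' * swap u v := swap_mul_inv' hz'.1 p e
      have ey3' : y3 = y' * swap p e := by rw [hy', mul_assoc, swap_mul_self, mul_one]
      have e5 : y * z' = y' * z' * (swap u v * swap d v * swap b c * swap a u) := by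
        rw [ey1, ey2, ey3, ey3']
        simp only [mul_assoc]
        rw [e1, ← mul_assoc (swap b c) z', e2]
        simp only [mul_assoc]
        rw [← mul_assoc (swap d e) z', e3]
        simp only [mul_assoc]
        rw [← mul_assoc (swap p e) z', e4'']
        simp only [mul_assoc]
      have : y * (z' * swap a b * swap c d) =
          y' * z' * (swap a u * swap a c) * (swap d v * swap d b) := by
        rw [mul_assoc (y' * z'), ← key, ← mul_assoc y, ← mul_assoc y, e5]
        simp only [mul_assoc]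
      rw [this]
      have y'a : y' a = a := iy'.2 a fun hm => ((memS' a).mp hm).2.1 rfl
      have y'b : y' b = b := iy'.2 b fun hm => ((memS' b).mp hm).2.2.1 rfl
      have y'c : y' c = c := iy'.2 c fun hm => ((memS' c).mp hm).2.2.2.1 rfl
      have y'd : y' d = d := iy'.2 d fun hm => ((memS' d).mp hm).2.2.2.2 rfl
      refine splice ?_ ?_ hdb hvd hvb (splice (fix_mul y'a za) (fix_mul y'c zc) hca.symm hua huc hzy)
      · exact fix_mul (fix_mul y'd zd) (fix_mul (swap_apply_of_ne_of_ne hda hud)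
          (swap_apply_of_ne_of_ne hda hcd.symm))
      · exact fix_mul (fix_mul y'b zb) (fix_mul (swap_apply_of_ne_of_ne hab.symm hub)
          (swap_apply_of_ne_of_ne hab.symm hbc))

/-- **Main construction.** -/
theorem solve (n : ℕ) : ∀ (S : Finset α) (x y : Perm α), S.card = n → Inv S x → Inv S y →
    x.support.card = y.support.card → ¬ Lone S x y → ∃ z, Sol S x y z := by
  induction n using Nat.strong_induction_on with
  | _ n IH =>
  intro S x y hn hx hy hc hL
  have hrec : ∀ (T : Finset α) x' y', T.card < S.card → Inv T x' → Inv T y' →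
      x'.support.card = y'.support.card → ¬ Lone T x' y' → ∃ z', Sol T x' y' z' :=
    fun T x' y' hlt h1 h2 h3 h4 => IH T.card (hn ▸ hlt) T x' y' rfl h1 h2 h3 h4
  by_cases hS : S = ∅
  · subst hS
    refine gadget_full hx hy hc (⟨![], fun i => i.elim0⟩ : Fin 0 ↪ α) (fun i => i.elim0) rfl 1 1 1
      (one_mul 1) (one_mul 1) (one_mul 1) rfl rfl (fun i => i.elim0) (fun i => i.elim0)
      (N := 1) odd_one (one_pow 1) (one_pow 1)
  -- a point fixed by both
  by_cases hA : ∃ w ∈ S, x w = w ∧ y w = w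
  · obtain ⟨w, hw, hxw, hyw⟩ := hA
    have hxi : ∀ i, x (e1 w i) = e1 w ((1 : Perm (Fin 1)) i) := fun _ => hxw
    have hyi : ∀ i, y (e1 w i) = e1 w ((1 : Perm (Fin 1)) i) := fun _ => hyw
    by_cases hT : Lone (S \ Finset.univ.map (e1 w)) x y
    · obtain ⟨q, q1, q2, q3, q4⟩ := lone_frame hx hy (e1 w) hxi hyi hT
      have hcard : S.card = 5 := by
        have h := hT.1
        rw [Finset.card_sdiff_of_subset (by
          intro a ha; obtain ⟨l, -, rfl⟩ := Finset.mem_map.mp ha; exact hw), Finset.card_map,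
          Finset.card_univ, Fintype.card_fin] at h
        omega
      exact gadget_full hx hy hc (join q (e1 w) fun i j h => q4 j i h.symm)
        (join_mem _ _ _ q1 fun _ => hw) hcard
        (tab ![1, 0, 3, 2, 4] (by decide)) (tab ![3, 2, 1, 0, 4] (by decide))
        (tab ![2, 4, 0, 3, 1] (by decide)) (tab_mul_self _ _) (tab_mul_self _ _) (tab_mul_self _ _)
        (by decide) (by decide) (join_apply _ _ _ q2 hxi _ (by decide) (by decide))
        (join_apply _ _ _ q3 hyi _ (by decide) (by decide)) (N := 5) (by decide) (by decide) (by decide)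
    · refine gadget_step hx hy hc (e1 w) (fun _ => hw) 1 1 1 (one_mul 1) (one_mul 1) (one_mul 1) rfl rfl
        hxi hyi (N := 1) odd_one (by simp) (by simp) fun x' y' i1 i2 i3 i4 i5 =>
        hrec _ x' y' (Finset.card_lt_card (Finset.sdiff_ssubset (by
          intro a ha; obtain ⟨l, -, rfl⟩ := Finset.mem_map.mp ha; exact hw) ⟨w, Finset.mem_map.mpr ⟨0, Finset.mem_univ _, rfl⟩⟩))
          i1 i2 i3 fun h => hT (h.congr (fun a ha => (i4 a ha).symm) fun a ha => (i5 a ha).symm)
  push Not at hA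
  -- a common transposition
  by_cases hB : ∃ a, x a ≠ a ∧ x a = y a
  · obtain ⟨a, h1, h2⟩ := hB
    have hab : a ≠ x a := h1.symm
    set t2 : Perm (Fin 2) := tab ![1, 0] (by decide) with ht2
    have hxi : ∀ i, x (e2 a (x a) hab i) = e2 a (x a) hab (t2 i) := by
      intro i; fin_cases i
      exacts [rfl, hx.apply_apply a]
    have hyi : ∀ i, y (e2 a (x a) hab i) = e2 a (x a) hab (t2 i) := by
      intro i; fin_cases i
      exacts [h2.symm, (congrArg y h2).trans (hy.apply_apply a)]
    have hmem : ∀ i, e2 a (x a) hab i ∈ S := by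
      intro i; fin_cases i
      exacts [hx.mem h1, hx.mem' h1]
    by_cases hT : Lone (S \ Finset.univ.map (e2 a (x a) hab)) x y
    · obtain ⟨q, q1, q2, q3, q4⟩ := lone_frame hx hy (e2 a (x a) hab) hxi hyi hT
      have hcard : S.card = 6 := by
        have h := hT.1
        rw [Finset.card_sdiff_of_subset (by
          intro b hb; obtain ⟨l, -, rfl⟩ := Finset.mem_map.mp hb; exact hmem l), Finset.card_map,
          Finset.card_univ, Fintype.card_fin] at h
        omega
      exact gadget_full hx hy hc (join q (e2 a (x a) hab) fun i j h => q4 j i h.symm)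
        (join_mem _ _ _ q1 hmem) hcard
        (tab ![1, 0, 3, 2, 5, 4] (by decide)) (tab ![3, 2, 1, 0, 5, 4] (by decide))
        (tab ![2, 4, 0, 5, 1, 3] (by decide)) (tab_mul_self _ _) (tab_mul_self _ _) (tab_mul_self _ _)
        (by decide) (by decide) (join_apply _ _ _ q2 hxi _ (by decide) (by rw [ht2]; decide))
        (join_apply _ _ _ q3 hyi _ (by decide) (by rw [ht2]; decide))
        (N := 3) (by decide) (by decide) (by decide)
    · refine gadget_step hx hy hc (e2 a (x a) hab) hmem t2 t2 t2 (tab_mul_self _ _) (tab_mul_self _ _)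
        (tab_mul_self _ _) rfl rfl hxi hyi (N := 1) odd_one (by rw [ht2]; decide) (by rw [ht2]; decide)
        fun x' y' i1 i2 i3 i4 i5 =>
        hrec _ x' y' (Finset.card_lt_card (Finset.sdiff_ssubset (by
          intro b hb; obtain ⟨l, -, rfl⟩ := Finset.mem_map.mp hb; exact hmem l) ⟨a, by
            exact Finset.mem_map.mpr ⟨0, Finset.mem_univ _, rfl⟩⟩))
          i1 i2 i3 fun h => hT (h.congr (fun b hb => (i4 b hb).symm) fun b hb => (i5 b hb).symm)
  push Not at hB
  -- ends of paths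
  by_cases hC : ∃ a, x a ≠ a ∧ y a ≠ a ∧ (y (x a) = x a ∨ x (y a) = y a)
  · obtain ⟨a, h1, h2, h3 | h3⟩ := hC
    · exact path_step hx hy hc h1 h2 h3 hrec
    · obtain ⟨z, hz⟩ := path_step hy hx hc.symm h2 h1 h3 hrec
      exact ⟨z, hz.symm hc.symm⟩
  push Not at hC
  by_cases hD : ∃ p, x p ≠ p ∧ y p = p
  · obtain ⟨p, hp, hp1⟩ := hD
    obtain ⟨q, hq, hq1⟩ : ∃ q, y q ≠ q ∧ x q = q := by
      by_contra hno
      push Not at hno
      have hsub : y.support ⊆ x.support.erase p := by
        intro q hq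
        rw [Perm.mem_support] at hq
        exact Finset.mem_erase.mpr ⟨fun e => hq (e ▸ hp1), Perm.mem_support.mpr (hno q hq)⟩
      have := (Finset.card_le_card hsub).trans_lt
        (Finset.card_erase_lt_of_mem (Perm.mem_support.mpr hp))
      omega
    exact edges_step hx hy hc hp hp1 hq hq1 hrec
  push Not at hD
  have hmov : ∀ a ∈ S, x a ≠ a ∧ y a ≠ a ∧ x a ≠ y a := by
    intro a ha
    have hxa : x a ≠ a := by
      intro hxa
      have hya := hA a ha hxa
      -- otherwise the support of `x` is properly inside that of `y`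
      have hsub : x.support ⊆ y.support.erase a := by
        intro q hq
        rw [Perm.mem_support] at hq
        exact Finset.mem_erase.mpr ⟨fun e => hq (e ▸ hxa), Perm.mem_support.mpr (hD q hq)⟩
      have := (Finset.card_le_card hsub).trans_lt
        (Finset.card_erase_lt_of_mem (Perm.mem_support.mpr hya))
      omega
    exact ⟨hxa, hD a hxa, hB a hxa⟩
  by_cases hE : ∃ a ∈ S, x (y a) ≠ y (x a)
  · obtain ⟨a, ha, hne⟩ := hE
    exact cycle_step hx hy hc hmov ha hne hrec
  push Not at hE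
  -- all points lie on squares
  obtain ⟨a, ha⟩ := Finset.nonempty_of_ne_empty hS
  have hsq : ∀ b ∈ S, Sq x y b := fun b hb => ⟨(hmov b hb).1, (hmov b hb).2.1, (hmov b hb).2.2, hE b hb⟩
  obtain ⟨q, q1, q2, q3, -⟩ := frame hx hy (hsq a ha)
  have hqsub : Finset.univ.map q ⊆ S := by
    intro b hb; obtain ⟨l, -, rfl⟩ := Finset.mem_map.mp hb; exact q1 l
  obtain ⟨e, he⟩ : (S \ Finset.univ.map q).Nonempty := by
    rw [← Finset.card_pos, Finset.card_sdiff_of_subset hqsub, Finset.card_map, Finset.card_univ,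
      Fintype.card_fin]
    by_contra h
    exact hL ⟨le_antisymm (by omega) (by simpa using Finset.card_le_card hqsub), hmov⟩
  obtain ⟨r, r1, r2, r3, r4⟩ := frame hx hy (hsq e (Finset.mem_sdiff.mp he).1)
  have hdisj := r4 q qx qy q2 q3 fun ⟨l, hl⟩ =>
    (Finset.mem_sdiff.mp he).2 (hl ▸ Finset.mem_map_of_mem q (Finset.mem_univ l))
  set X8 : Perm (Fin (4 + 4)) := tab ![1, 0, 3, 2, 5, 4, 7, 6] (by decide) with hX8
  set Y8 : Perm (Fin (4 + 4)) := tab ![3, 2, 1, 0, 7, 6, 5, 4] (by decide) with hY8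
  have hPx : ∀ l, x (join q r hdisj l) = join q r hdisj (X8 l) :=
    join_apply _ _ _ q2 r2 _ (by rw [hX8]; decide) (by rw [hX8]; decide)
  have hPy : ∀ l, y (join q r hdisj l) = join q r hdisj (Y8 l) :=
    join_apply _ _ _ q3 r3 _ (by rw [hY8]; decide) (by rw [hY8]; decide)
  have hPS : ∀ l, join q r hdisj l ∈ S := join_mem _ _ _ q1 r1
  have hPsub : Finset.univ.map (join q r hdisj) ⊆ S := by
    intro b hb; obtain ⟨l, -, rfl⟩ := Finset.mem_map.mp hb; exact hPS l
  by_cases hT : Lone (S \ Finset.univ.map (join q r hdisj)) x y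
  · obtain ⟨s, s1, s2, s3, s4⟩ := lone_frame hx hy (join q r hdisj) hPx hPy hT
    have hcard : S.card = 12 := by
      have h := hT.1
      rw [Finset.card_sdiff_of_subset hPsub, Finset.card_map, Finset.card_univ, Fintype.card_fin] at h
      omega
    exact gadget_full hx hy hc (join (join q r hdisj) s s4) (join_mem _ _ _ hPS s1) hcard
      (tab ![1, 0, 3, 2, 5, 4, 7, 6, 9, 8, 11, 10] (by decide))
      (tab ![3, 2, 1, 0, 7, 6, 5, 4, 11, 10, 9, 8] (by decide))
      (tab ![1, 0, 4, 6, 2, 8, 3, 11, 5, 10, 9, 7] (by decide)) (tab_mul_self _ _) (tab_mul_self _ _)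
      (tab_mul_self _ _) (by decide) (by decide)
      (join_apply _ _ _ hPx s2 _ (by rw [hX8]; decide) (by decide))
      (join_apply _ _ _ hPy s3 _ (by rw [hY8]; decide) (by decide))
      (N := 5) (by decide) (by decide) (by decide)
  · refine gadget_step hx hy hc (join q r hdisj) hPS X8 Y8
      (tab ![1, 0, 4, 7, 2, 6, 5, 3] (by decide)) (tab_mul_self _ _) (tab_mul_self _ _)
      (tab_mul_self _ _) (by rw [hX8, hY8]; decide) (by rw [hX8]; decide) hPx hPy
      (N := 3) (by decide) (by rw [hX8]; decide) (by rw [hY8]; decide)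
      fun x' y' i1 i2 i3 i4 i5 =>
        hrec _ x' y' (Finset.card_lt_card (Finset.sdiff_ssubset hPsub ?_))
          i1 i2 i3 fun h => hT (h.congr (fun b hb => (i4 b hb).symm) fun b hb => (i5 b hb).symm)
    exact ⟨join q r hdisj 0, Finset.mem_map_of_mem _ (Finset.mem_univ _)⟩

end Cfsg.Agent.OddProductGraph
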